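import Cfsg.Agent.H638.FD.Blk
import Cfsg.Agent.H492.IMPair_m3
import Cfsg.Agent.H597.ThreeDegD
import Cfsg.Agent.H740.FiveBase
import Cfsg.Agent.H348.PPD.Rows_m3
import Cfsg.Agent.H690.Spor.Tits
import Cfsg.Agent.H845.CopTits
import Cfsg.Agent.EvenType.ChevTwoTits
import Cfsg.Agent.FourTwo.Perf
import Cfsg.Agent.H55.OutGen
import Cfsg.Agent.S1074
import Cfsg.Agent.Omega.TwoF.TitsAut
import Cfsg.Agent.FastGrp
import Cfsg.Agent.Prune
set_option linter.all false
prune_inst 0x7ffffefffffbffdeffff7e3ffffddffe13c6cfffffdffb4bfffffb9fbfff237f3bc5fbaf9de4f8ff9ef6e6b430b87853fb7eeeffef6fdc7ffffd5ff45ffbee1fb7efbf8d51d3b0241ffe6ffffbf37fff7f3ffffffffffffffffffffffffffffffffdffffffff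
open scoped Cfsg.Agent.FastGrp

-- part: H603/FD/Kill
section
/-!
# Five character degrees from one prime (helper603)

Almost simple groups `G` with socle `M`, `|G : M| ≤ 2`, and a prime `p` dividing `|M|` exactly once with
self-centralizing Sylow subgroup in `M`: the relation between the degrees of the principal `p`-block
excludes four degrees.

* `relIndex_eq` : the inertial index by Sylow's theorem.
* `exists_three` : a nonsolvable group with fewer than five degrees has exactly four.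
* `eqn` : the equation when one of the three degrees is divisible by `p`.
* `five_of_kill` : one degree of `M` prime to `p` known.
-/

set_option autoImplicit false

open Cfsg

namespace Cfsg.Agent.H603.FD.Kill

open Cfsg.Agent.H33

universe u

section Basic

variable {G : Type u} [Group G] [Finite G]

omit [Finite G] in
theorem one_mem : 1 ∈ charDegrees G := by
  refine ⟨⟨fun _ => 1, Characters.Core.isIrr_one⟩, ?_⟩
  apply Blocks.Basic.charDegree_of_eq
  simp

theorem dvd_card {d : ℕ} (h : d ∈ charDegrees G) : d ∣ Nat.card G := by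
  obtain ⟨χ, rfl⟩ := h
  exact Blocks.Knorr.charDegree_dvd χ.2

theorem pos_of_mem {d : ℕ} (h : d ∈ charDegrees G) : 0 < d :=
  Nat.pos_of_dvd_of_pos (dvd_card h) Nat.card_pos

theorem four (S : Set ℕ) (hS : S.Finite) (h1 : 1 ∈ S) (h : S.ncard = 4) :
    ∃ a b c, S = {1, a, b, c} ∧ a ≠ 1 ∧ b ≠ 1 ∧ c ≠ 1 ∧ a ≠ b ∧ a ≠ c ∧ b ≠ c := by
  have h2 : (S \ {1}).ncard = 3 := by
    have h3 := Set.ncard_sdiff_singleton_add_one h1 hS
    omega
  obtain ⟨a, b, c, hab, hac, hbc, h3⟩ := Set.ncard_eq_three.1 h2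
  have ha : a ∈ S \ {1} := by rw [h3]; simp
  have hb : b ∈ S \ {1} := by rw [h3]; simp
  have hc : c ∈ S \ {1} := by rw [h3]; simp
  refine ⟨a, b, c, ?_, fun h => ha.2 h, fun h => hb.2 h, fun h => hc.2 h, hab, hac, hbc⟩
  rw [← h3]
  ext x
  by_cases hx : x = 1
  · subst hx; simp [h1]
  · simp [hx]

theorem le_three (S : Set ℕ) (hS : S.Finite) (h1 : 1 ∈ S) (h : S.ncard < 4) :
    ∃ m n, S ⊆ {1, m, n} := by
  have h3 := Set.ncard_sdiff_singleton_add_one h1 hS
  have hf : (S \ {1}).Finite := hS.subset Set.sdiff_subset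
  have h4 : ∃ m n, S \ {1} ⊆ {m, n} := by
    have h5 : (S \ {1}).ncard = 0 ∨ (S \ {1}).ncard = 1 ∨ (S \ {1}).ncard = 2 := by omega
    rcases h5 with h5 | h5 | h5
    · rw [Set.ncard_eq_zero hf] at h5
      exact ⟨0, 0, by rw [h5]; exact Set.empty_subset _⟩
    · obtain ⟨a, ha⟩ := Set.ncard_eq_one.1 h5
      exact ⟨a, a, by rw [ha]; simp⟩
    · obtain ⟨a, b, -, ha⟩ := Set.ncard_eq_two.1 h5
      exact ⟨a, b, by rw [ha]⟩
  obtain ⟨m, n, h5⟩ := h4
  refine ⟨m, n, fun x hx => ?_⟩
  by_cases hx1 : x = 1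
  · subst hx1; simp
  · have h6 := h5 ⟨hx, hx1⟩
    simp only [Set.mem_insert_iff, Set.mem_singleton_iff] at h6 ⊢
    (clear * - m n x h6; tauto)

/-- A nonsolvable group with fewer than five degrees. -/
theorem exists_three (hns : ¬ Group.IsSolvable G) (h : (charDegrees G).ncard < 5) :
    ∃ a b c, charDegrees G = {1, a, b, c} ∧ a ≠ 1 ∧ b ≠ 1 ∧ c ≠ 1 ∧ a ≠ b ∧ a ≠ c ∧ b ≠ c := by
  have hfin := H740.FiveBase.finite_degrees G
  by_cases h4 : (charDegrees G).ncard = 4
  · exact four _ hfin one_mem h4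
  · exfalso
    obtain ⟨m, n, hmn⟩ := le_three _ hfin one_mem (by omega)
    refine hns ⟨3, H597.ThreeDegD.derived_three (m := m) (n := n) fun χ hχ => ?_⟩
    have h5 : charDegree χ ∈ ({1, m, n} : Set ℕ) := hmn ⟨⟨χ, hχ⟩, rfl⟩
    simpa using h5

end Basic

section Sylow

variable {G : Type u} [Group G] [Finite G] {p : ℕ} [hp : Fact p.Prime]

/-- The inertial index from Sylow's theorem. -/
theorem relIndex_eq (P : Sylow p G) (hP : Nat.card P = p) {c e N : ℕ}
    (hC : Nat.card (Subgroup.centralizer ((P : Subgroup G) : Set G)) = p * c)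
    (hcard : Nat.card G = p * N) (hpN : ¬ p ∣ N) (he : e < p) (he' : (e * c) % p = N % p) :
    (Subgroup.centralizer ((P : Subgroup G) : Set G)).relIndex
      (Subgroup.normalizer ((P : Subgroup G) : Set G)) = e := by
  have hpp := hp.out
  set r := (Subgroup.centralizer ((P : Subgroup G) : Set G)).relIndex
      (Subgroup.normalizer ((P : Subgroup G) : Set G)) with hr
  have hcyc : IsCyclic P := isCyclic_of_prime_card hP
  obtain ⟨M, hM⟩ := Blocks.Knorr.exists_isPModular p
  obtain ⟨hrp, -⟩ := H638.FD.Blk.struct₀ hM P hcyc (k := 1) le_rfl (by rw [pow_one]; exact hP)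
    (e := r) rfl
  have hrlt : r < p := by
    have h1 := Nat.le_of_dvd (by have := hpp.two_le; omega) hrp
    have := hpp.two_le
    omega
  have hCN : Subgroup.centralizer ((P : Subgroup G) : Set G) ≤
      Subgroup.normalizer ((P : Subgroup G) : Set G) := Subgroup.centralizer_le_normalizer _
  have h1 : Nat.card (Subgroup.normalizer ((P : Subgroup G) : Set G)) = (p * c) * r := by
    rw [← hC, hr, mul_comm, ← Subgroup.relIndex_bot_left, ← Subgroup.relIndex_bot_left, mul_comm,
      Subgroup.relIndex_mul_relIndex _ _ _ bot_le hCN]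
  have h2 := Subgroup.card_mul_index (Subgroup.normalizer ((P : Subgroup G) : Set G))
  have h3 : (Subgroup.normalizer ((P : Subgroup G) : Set G)).index ≡ 1 [MOD p] := by
    have h4 := card_sylow_modEq_one p G
    rw [Sylow.card_eq_index_normalizer P] at h4
    exact h4
  set n := (Subgroup.normalizer ((P : Subgroup G) : Set G)).index with hn
  rw [h1, hcard] at h2
  have h4 : c * r * n = N := by
    have : p * (c * r * n) = p * N := by rw [← h2]; ring
    exact Nat.eq_of_mul_eq_mul_left hpp.pos this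
  have h5 : r * c ≡ e * c [MOD p] := by
    have h6 : c * r * n ≡ c * r * 1 [MOD p] := Nat.ModEq.mul_left _ h3
    rw [h4, mul_one, mul_comm c r] at h6
    exact h6.symm.trans (Nat.ModEq.symm he')
  have h6 : Nat.Coprime p c := by
    rw [hpp.coprime_iff_not_dvd]
    intro h
    apply hpN
    rw [← h4]
    exact Dvd.dvd.mul_right (Dvd.dvd.mul_right h _) _
  have h7 : r ≡ e [MOD p] := Nat.ModEq.cancel_right_of_coprime (by
    rw [h6]) h5
  have h8 := Nat.mod_eq_of_lt hrlt
  have h9 := Nat.mod_eq_of_lt he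
  have h10 : r % p = e % p := h7
  omega

/-- The equation in the principal block, one of the three degrees divisible by `p`. -/
theorem eqn (h2 : p ≠ 2) (P : Sylow p G) (hP : Nat.card P = p) {e : ℕ}
    (he : (Subgroup.centralizer ((P : Subgroup G) : Set G)).relIndex
      (Subgroup.normalizer ((P : Subgroup G) : Set G)) = e) (he1 : ¬ p ∣ e)
    (hN : ∀ N : Subgroup G, N.Normal → N.index ≠ p) {a b c : ℕ} (hcd : charDegrees G = {1, a, b, c})
    (ha : a ≠ 1) (hb : b ≠ 1) (hc : c ≠ 1) (hab : a ≠ b) (hac : a ≠ c) (hbc : b ≠ c) (hpc : p ∣ c) :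
    ∃ (n₁ na nb : ℕ) (sa sb s : ℤ) (f : ℕ), 1 ≤ n₁ ∧ n₁ ≤ (commutator G).index ∧ n₁ + na + nb = e ∧
      (sa = 1 ∨ sa = -1) ∧ (sb = 1 ∨ sb = -1) ∧ (s = 1 ∨ s = -1) ∧
      (na ≠ 0 → (p : ℤ) ∣ sa * a - 1) ∧ (nb ≠ 0 → (p : ℤ) ∣ sb * b - 1) ∧
      (f = 1 ∨ f = a ∨ f = b) ∧ (p : ℤ) ∣ f + e * s ∧
      n₁ + sa * na * a + sb * nb * b + s * f = 0 := by
  have hcyc : IsCyclic P := isCyclic_of_prime_card hP
  have hpp := hp.out
  obtain ⟨n₁, na, nb, nc, sa, sb, sc, s, f, h1, h3, h4, h5, h6, h7, h8, h9, h10, h11, h12, h13, h14⟩ :=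
    H638.FD.Blk.degs h2 P hcyc (k := 1) le_rfl (by rw [pow_one]; exact hP) he hN hcd.le ha hb hc
      hab hac hbc
  rw [pow_one] at h9 h10 h11 h13
  have hpc' : (p : ℤ) ∣ (c : ℤ) := Int.natCast_dvd_natCast.2 hpc
  have hp1 : ¬ (p : ℤ) ∣ 1 := by
    intro h
    have h' : p ∣ 1 := by exact_mod_cast h
    exact hpp.one_lt.ne' (Nat.dvd_one.1 h')
  have hnc : nc = 0 := by
    by_contra hne
    have h15 := h11 hne
    apply hp1
    have h16 : (p : ℤ) ∣ sc * c := Dvd.dvd.mul_left hpc' _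
    have h17 := dvd_sub h16 h15
    rwa [sub_sub_cancel] at h17
  subst hnc
  refine ⟨n₁, na, nb, sa, sb, s, f, h1, h3, by omega, h5, h6, h8, h9, h10, ?_, h13, ?_⟩
  · rcases h12 with h | h | h | h
    · exact Or.inl h
    · exact Or.inr (Or.inl h)
    · exact Or.inr (Or.inr h)
    · exfalso
      rw [h] at h13
      have h15 : (p : ℤ) ∣ e * s := (Int.dvd_add_right hpc').1 h13
      apply he1
      rcases h8 with h8 | h8
      · rw [h8, mul_one] at h15
        exact_mod_cast h15
      · rw [h8, mul_neg, mul_one, dvd_neg] at h15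
        exact_mod_cast h15
  · have h15 : (n₁ : ℤ) + sa * na * a + sb * nb * b + sc * (0 : ℕ) * c + s * f = 0 := h14
    rw [Nat.cast_zero, mul_zero, zero_mul, add_zero] at h15
    exact h15

end Sylow

section Check

/-- no `b` with `k b = T` -/
def okb (N a : ℕ) (T k : ℤ) : Bool :=
  if k = 0 then decide (T ≠ 0)
  else !(decide (T % k = 0) && decide (1 < T / k) && decide ((N : ℤ) % (T / k) = 0) &&
    decide (T / k ≠ a))

theorem okb_spec {N a : ℕ} {T k : ℤ} (h : okb N a T k = true) {b : ℕ} (hb : 1 < b) (hbN : b ∣ N)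
    (hba : b ≠ a) (hT : T = k * b) : False := by
  unfold okb at h
  by_cases hk : k = 0
  · rw [if_pos hk, decide_eq_true_eq] at h
    apply h
    rw [hT, hk, zero_mul]
  · rw [if_neg hk] at h
    have h1 : T % k = 0 := by rw [hT]; exact Int.mul_emod_right _ _
    have h2 : T / k = b := by rw [hT]; exact Int.mul_ediv_cancel_left _ hk
    have h3 : (1 : ℤ) < b := by exact_mod_cast hb
    have h4 : (N : ℤ) % b = 0 := by
      obtain ⟨t, rfl⟩ := hbN
      push_cast
      exact Int.mul_emod_right _ _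
    have h5 : (b : ℤ) ≠ a := by exact_mod_cast hba
    rw [h2] at h
    simp [h1, h3, h4, h5] at h

/-- the check for one choice of the numbers -/
def chk1 (N p e a n₁ na : ℕ) (sa sb s : ℤ) : Bool :=
  (decide (na ≠ 0) && decide ((sa * a - 1) % p ≠ 0)) ||
    ((decide (((1 : ℤ) + e * s) % p ≠ 0) ||
        okb N a (-(n₁ + sa * na * a + s)) (sb * ((e : ℤ) - n₁ - na))) &&
     (decide (((a : ℤ) + e * s) % p ≠ 0) ||
        okb N a (-(n₁ + sa * na * a + s * a)) (sb * ((e : ℤ) - n₁ - na))) &&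
     okb N a (-(n₁ + sa * na * a)) (sb * ((e : ℤ) - n₁ - na) + s))

theorem chk1_spec {N p e a n₁ na : ℕ} {sa sb s : ℤ} (h : chk1 N p e a n₁ na sa sb s = true)
    {nb b f : ℕ} (hn : n₁ + na + nb = e) (hna : na ≠ 0 → (p : ℤ) ∣ sa * a - 1)
    (hf : f = 1 ∨ f = a ∨ f = b) (hfe : (p : ℤ) ∣ f + e * s) (hb : 1 < b) (hbN : b ∣ N)
    (hba : b ≠ a) (heq : n₁ + sa * na * a + sb * nb * b + s * f = 0) : False := by
  unfold chk1 at h
  have hnb : (e : ℤ) - n₁ - na = nb := by
    rw [← hn]; push_cast; ring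
  rw [hnb] at h
  rcases Bool.or_eq_true_iff.1 h with h | h
  · rw [Bool.and_eq_true, decide_eq_true_eq, decide_eq_true_eq] at h
    exact h.2 (Int.emod_eq_zero_of_dvd (hna h.1))
  · rw [Bool.and_eq_true, Bool.and_eq_true] at h
    obtain ⟨⟨h1, h2⟩, h3⟩ := h
    rcases hf with rfl | rfl | rfl
    · rcases Bool.or_eq_true_iff.1 h1 with h1 | h1
      · rw [decide_eq_true_eq] at h1
        exact h1 (Int.emod_eq_zero_of_dvd (by exact_mod_cast hfe))
      · refine okb_spec h1 hb hbN hba ?_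
        push_cast at heq
        linarith only [heq]
    · rcases Bool.or_eq_true_iff.1 h2 with h2 | h2
      · rw [decide_eq_true_eq] at h2
        exact h2 (Int.emod_eq_zero_of_dvd hfe)
      · refine okb_spec h2 hb hbN hba ?_
        linarith only [heq]
    · refine okb_spec h3 hb hbN hba ?_
      linarith only [heq]

/-- the check -/
def chk (N p e a m : ℕ) : Bool :=
  (List.range (m + 1)).all fun n₁ => decide (n₁ = 0) || (List.range (e + 1)).all fun na =>
    decide (e < n₁ + na) ||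
    ([1, -1] : List ℤ).all fun sa => ([1, -1] : List ℤ).all fun sb => ([1, -1] : List ℤ).all fun s =>
      chk1 N p e a n₁ na sa sb s

theorem chk_spec {N p e a m : ℕ} (h : chk N p e a m = true) {n₁ na nb : ℕ} {sa sb s : ℤ} {b f : ℕ}
    (h1 : 1 ≤ n₁) (h1m : n₁ ≤ m) (hn : n₁ + na + nb = e) (hsa : sa = 1 ∨ sa = -1)
    (hsb : sb = 1 ∨ sb = -1) (hs : s = 1 ∨ s = -1) (hna : na ≠ 0 → (p : ℤ) ∣ sa * a - 1)
    (hf : f = 1 ∨ f = a ∨ f = b) (hfe : (p : ℤ) ∣ f + e * s) (hb : 1 < b) (hbN : b ∣ N)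
    (hba : b ≠ a) (heq : n₁ + sa * na * a + sb * nb * b + s * f = 0) : False := by
  unfold chk at h
  rw [List.all_eq_true] at h
  have h2 := h n₁ (List.mem_range.2 (by omega))
  rcases Bool.or_eq_true_iff.1 h2 with h2 | h2
  · rw [decide_eq_true_eq] at h2
    omega
  · rw [List.all_eq_true] at h2
    have h3 := h2 na (List.mem_range.2 (by omega))
    rcases Bool.or_eq_true_iff.1 h3 with h3 | h3
    · rw [decide_eq_true_eq] at h3
      omega
    · rw [List.all_eq_true] at h3
      have h4 := h3 sa (by rcases hsa with rfl | rfl <;> simp)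
      rw [List.all_eq_true] at h4
      have h5 := h4 sb (by rcases hsb with rfl | rfl <;> simp)
      rw [List.all_eq_true] at h5
      have h6 := h5 s (by rcases hs with rfl | rfl <;> simp)
      exact chk1_spec h6 hn hna hf hfe hb hbN hba heq

end Check

section Almost

variable {G : Type u} [Group G]

/-- facts about an almost simple group -/
theorem not_comm (M : Subgroup G) (hc : Subgroup.centralizer (M : Set G) = ⊥) [IsSimpleGroup M] :
    ¬ ∀ x y : M, x * y = y * x := by
  intro h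
  have h1 : M ≤ Subgroup.centralizer (M : Set G) := by
    intro x hx y hy
    exact congrArg Subtype.val (h ⟨y, hy⟩ ⟨x, hx⟩)
  rw [hc, le_bot_iff] at h1
  have : Nontrivial M := inferInstance
  exact (Subgroup.nontrivial_iff_ne_bot M).1 this h1

theorem not_solvable (M : Subgroup G) (hc : Subgroup.centralizer (M : Set G) = ⊥) [IsSimpleGroup M] :
    ¬ Group.IsSolvable G := by
  intro h
  have h1 : Group.IsSolvable M := inferInstance
  exact not_comm M hc (IsSimpleGroup.comm_iff_isSolvable.2 h1)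

theorem le_or_inf_bot (M : Subgroup G) [IsSimpleGroup M] (N : Subgroup G) (hN : N.Normal) :
    M ≤ N ∨ M ⊓ N = ⊥ := by
  have h1 : (N.subgroupOf M).Normal := inferInstance
  rcases h1.eq_bot_or_eq_top with h | h
  · right
    rw [Subgroup.subgroupOf_eq_bot] at h
    rw [inf_comm]
    exact h.eq_bot
  · left
    exact Subgroup.subgroupOf_eq_top.1 h

theorem le_of_ne_bot (M : Subgroup G) [hM : M.Normal] (hc : Subgroup.centralizer (M : Set G) = ⊥)
    [IsSimpleGroup M] (N : Subgroup G) (hN : N.Normal) (hN1 : N ≠ ⊥) : M ≤ N := by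
  rcases le_or_inf_bot M N hN with h | h
  · exact h
  · exfalso
    apply hN1
    rw [eq_bot_iff, ← hc]
    intro x hx
    rw [Subgroup.mem_centralizer_iff]
    intro y hy
    have h1 : y * x * y⁻¹ * x⁻¹ ∈ M ⊓ N := by
      refine ⟨?_, ?_⟩
      · have h2 : x * y⁻¹ * x⁻¹ ∈ M := hM.conj_mem _ (M.inv_mem hy) _
        have h3 : y * x * y⁻¹ * x⁻¹ = y * (x * y⁻¹ * x⁻¹) := by group
        rw [h3]
        exact M.mul_mem hy h2
      · exact N.mul_mem (hN.conj_mem _ hx _) (N.inv_mem hx)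
    rw [h, Subgroup.mem_bot, mul_inv_eq_one, mul_inv_eq_iff_eq_mul] at h1
    exact h1

theorem index_ne (M : Subgroup G) [M.Normal] (hc : Subgroup.centralizer (M : Set G) = ⊥)
    [IsSimpleGroup M] (hidx : M.index ∣ 2) {p : ℕ} (hp : p.Prime) (h2 : p ≠ 2) (N : Subgroup G)
    (hN : N.Normal) : N.index ≠ p := by
  intro h
  by_cases hN1 : N = ⊥
  · rw [hN1, Subgroup.index_bot] at h
    have : Fact p.Prime := ⟨hp⟩
    have h1 : IsCyclic G := isCyclic_of_prime_card h
    have h3 : IsMulCommutative G := IsCyclic.isMulCommutative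
    exact not_comm M hc fun x y => Subtype.ext (h3.is_comm.comm _ _)
  · have h1 := le_of_ne_bot M hc N hN hN1
    have h3 := (Subgroup.index_dvd_of_le h1).trans hidx
    rw [h] at h3
    exact h2 ((Nat.prime_dvd_prime_iff_eq hp Nat.prime_two).1 h3)

theorem index_commutator (M : Subgroup G) [M.Normal] [IsSimpleGroup M] [Finite G]
    (hc : Subgroup.centralizer (M : Set G) = ⊥) :
    (commutator G).index ≤ M.index := by
  have h1 : M ≤ commutator G := by
    refine le_of_ne_bot M hc _ inferInstance ?_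
    intro h
    rw [commutator_def, Subgroup.commutator_eq_bot_iff_le_centralizer] at h
    apply not_comm M hc
    intro x y
    have h3 := Subgroup.mem_centralizer_iff.1 (h (Subgroup.mem_top (x : G))) (y : G)
      (Subgroup.mem_top _)
    exact Subtype.ext h3.symm
  exact Nat.le_of_dvd (Nat.pos_of_ne_zero Subgroup.index_ne_zero_of_finite) (Subgroup.index_dvd_of_le h1)

end Almost

end Cfsg.Agent.H603.FD.Kill
end

-- part: H603/FD/KillMain
section
/-!
# Five character degrees from one prime: the two main theorems (helper603)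

* `five_of_kill` : one degree of the socle prime to `p` is known;
* `five_of_inner` : `G = M`, `1 < e < p - 1`.
-/

set_option autoImplicit false

open Cfsg

namespace Cfsg.Agent.H603.FD.Kill

open Cfsg.Agent.H33

universe u

variable {G : Type u} [Group G] [Finite G] {p : ℕ} [hp : Fact p.Prime]

omit [Finite G] hp in
theorem centralizer_zpowers (x : G) :
    Subgroup.centralizer ((Subgroup.zpowers x : Subgroup G) : Set G) = Subgroup.centralizer {x} := by
  ext y
  rw [Subgroup.mem_centralizer_iff, Subgroup.mem_centralizer_singleton_iff]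
  constructor
  · intro h
    exact (h x (Subgroup.mem_zpowers x)).symm
  · rintro h z ⟨i, rfl⟩
    have h1 : Commute y x := h
    exact (h1.zpow_right i).symm

omit [Finite G] in
theorem card_cent (M : Subgroup G) [M.Normal] (P : Subgroup G) (hP : Nat.card P = p)
    (hPM : P ≤ M) (hCM : ∀ x : M, orderOf x = p → Nat.card (Subgroup.centralizer ({x} : Set M)) = p) :
    ∃ c, c ∣ M.index ∧ Nat.card (Subgroup.centralizer (P : Set G)) = p * c := by
  have hpp := hp.out
  have hcyc : IsCyclic P := isCyclic_of_prime_card hP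
  obtain ⟨g, hg⟩ := hcyc.exists_generator
  have hx : P = Subgroup.zpowers (g : G) := by
    apply le_antisymm
    · intro y hy
      obtain ⟨i, hi⟩ := Subgroup.mem_zpowers_iff.1 (hg ⟨y, hy⟩)
      exact ⟨i, congrArg Subtype.val hi⟩
    · rw [Subgroup.zpowers_le]
      exact g.2
  set x : G := (g : G) with hxg
  have hxM : x ∈ M := hPM g.2
  have hox : orderOf x = p := by
    rw [← Nat.card_zpowers, ← hx]
    exact hP
  have h1 : Nat.card (Subgroup.centralizer ({⟨x, hxM⟩} : Set M)) = p :=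
    hCM ⟨x, hxM⟩ (by rw [Subgroup.orderOf_mk]; exact hox)
  set C := Subgroup.centralizer (P : Set G) with hC
  have hC' : C = Subgroup.centralizer ({x} : Set G) := by
    rw [hC, hx, centralizer_zpowers]
  refine ⟨M.relIndex C, Subgroup.relIndex_dvd_index_of_normal M C, ?_⟩
  have h2 : Nat.card (M.subgroupOf C) = p := by
    rw [← h1]
    refine Nat.card_congr
      { toFun := fun y => ⟨⟨(y : C), y.2⟩, ?_⟩
        invFun := fun y => ⟨⟨((y : M) : G), ?_⟩, (y : M).2⟩
        left_inv := fun y => rfl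
        right_inv := fun y => rfl }
    · have h3 : ((y : C) : G) ∈ Subgroup.centralizer ({x} : Set G) := hC' ▸ (y : C).2
      rw [Subgroup.mem_centralizer_singleton_iff] at h3 ⊢
      exact Subtype.ext h3
    · have h3 := y.2
      rw [Subgroup.mem_centralizer_singleton_iff] at h3
      rw [hC', Subgroup.mem_centralizer_singleton_iff]
      exact congrArg Subtype.val h3
  rw [← h2]
  exact (Subgroup.card_mul_index (M.subgroupOf C)).symm

/-- `e` and the number `c` -/
theorem exists_e (M : Subgroup G) [M.Normal] (hidx : M.index ∣ 2) (h2 : p ≠ 2) {N0 : ℕ}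
    (hcard : Nat.card M = p * N0) (hpN : ¬ p ∣ N0)
    (hCM : ∀ x : M, orderOf x = p → Nat.card (Subgroup.centralizer ({x} : Set M)) = p) :
    ∃ (P : Sylow p G) (c : ℕ), Nat.card P = p ∧ c ∣ M.index ∧
      Nat.card (Subgroup.centralizer ((P : Subgroup G) : Set G)) = p * c ∧
      Nat.card G = p * (N0 * M.index) ∧ ¬ p ∣ N0 * M.index ∧ (P : Subgroup G) ≤ M := by
  have hpp := hp.out
  obtain ⟨P⟩ : Nonempty (Sylow p G) := inferInstance
  have h1 : Nat.card G = p * (N0 * M.index) := by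
    rw [← Subgroup.card_mul_index M, hcard, mul_assoc]
  have h3 : ¬ p ∣ M.index := fun h => h2 ((Nat.prime_dvd_prime_iff_eq hpp Nat.prime_two).1 (h.trans hidx))
  have h4 : ¬ p ∣ N0 * M.index := by
    intro h
    rcases hpp.dvd_mul.1 h with h | h
    · exact hpN h
    · exact h3 h
  have hP : Nat.card P = p := by
    rw [P.card_eq_multiplicity, h1, Nat.factorization_mul hpp.ne_zero (by
      intro h; rw [h] at h4; exact h4 (dvd_zero _)), Finsupp.add_apply, hpp.factorization_self,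
      Nat.factorization_eq_zero_of_not_dvd h4, pow_one]
  have hPM : (P : Subgroup G) ≤ M := by
    intro y hy
    rw [← QuotientGroup.eq_one_iff]
    have h5 : orderOf (y : G ⧸ M) ∣ p := by
      have h6 : orderOf y ∣ p := by
        rw [← hP]
        have h7 := orderOf_dvd_natCard (⟨y, hy⟩ : P)
        rwa [Subgroup.orderOf_mk] at h7
      exact (orderOf_map_dvd (QuotientGroup.mk' M) y).trans h6
    have h6 : orderOf (y : G ⧸ M) ∣ M.index := by
      rw [Subgroup.index]
      exact orderOf_dvd_natCard _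
    rcases (Nat.dvd_prime hpp).1 h5 with h | h
    · exact orderOf_eq_one_iff.1 h
    · rw [h] at h6
      exact absurd h6 h3
  obtain ⟨c, hc, hc'⟩ := card_cent M (P : Subgroup G) hP hPM hCM
  exact ⟨P, c, hP, hc, hc', h1, h4, hPM⟩

theorem reorder {S : Set ℕ} {a b c u v : ℕ} (hS : S = {1, a, b, c}) (ha : a ≠ 1) (hb : b ≠ 1) (hc : c ≠ 1)
    (hab : a ≠ b) (hac : a ≠ c) (hbc : b ≠ c) (hu : u ∈ S) (hv : v ∈ S) (hu1 : u ≠ 1) (hv1 : v ≠ 1)
    (huv : u ≠ v) : ∃ w, S = {1, u, w, v} ∧ w ≠ 1 ∧ u ≠ w ∧ w ≠ v := by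
  subst hS
  simp only [Set.mem_insert_iff, Set.mem_singleton_iff] at hu hv
  rcases hu with rfl | rfl | rfl | rfl
  · exact absurd rfl hu1
  · rcases hv with rfl | rfl | rfl | rfl
    · exact absurd rfl hv1
    · exact absurd rfl huv
    · exact ⟨c, by rw [Set.pair_comm v c], hc, hac, hbc.symm⟩
    · exact ⟨b, rfl, hb, hab, hbc⟩
  · rcases hv with rfl | rfl | rfl | rfl
    · exact absurd rfl hv1
    · exact ⟨c, by ext z; simp only [Set.mem_insert_iff, Set.mem_singleton_iff]; (clear * -; tauto), hc, hbc, hac.symm⟩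
    · exact absurd rfl huv
    · exact ⟨a, by ext z; simp only [Set.mem_insert_iff, Set.mem_singleton_iff]; (clear * -; tauto), ha, hab.symm, hac⟩
  · rcases hv with rfl | rfl | rfl | rfl
    · exact absurd rfl hv1
    · exact ⟨b, by ext z; simp only [Set.mem_insert_iff, Set.mem_singleton_iff]; (clear * -; tauto), hb, hbc.symm, hab.symm⟩
    · exact ⟨a, by ext z; simp only [Set.mem_insert_iff, Set.mem_singleton_iff]; (clear * -; tauto), ha, hac.symm, hab⟩
    · exact absurd rfl huv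

/-- **Main theorem**: a degree prime to `p` of the socle is known. -/
theorem five_of_kill (M : Subgroup G) (hM : M.Normal) (hc : Subgroup.centralizer (M : Set G) = ⊥)
    (hs : IsSimpleGroup M) (hidx : M.index ∣ 2) (h2 : p ≠ 2) {N0 e0 e1 D0 : ℕ}
    (hcard : Nat.card M = p * N0) (hpN : ¬ p ∣ N0) (he0 : e0 < p) (he0' : e0 % p = N0 % p)
    (he1 : e1 < p) (he1' : e1 % p = N0 * 2 % p) (hep : ¬ p ∣ e0) (hep' : ¬ p ∣ e1)
    (hCM : ∀ x : M, orderOf x = p → Nat.card (Subgroup.centralizer ({x} : Set M)) = p)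
    (hIM : IM p M) (hD : D0 ∈ charDegrees M) (hD1 : 1 < D0) (hDp : ¬ p ∣ D0)
    (k1 : chk (p * N0) p e0 D0 1 = true)
    (k2 : chk (p * (N0 * 2)) p e0 D0 2 = true) (k3 : chk (p * (N0 * 2)) p e0 (D0 * 2) 2 = true)
    (k4 : chk (p * (N0 * 2)) p e1 D0 2 = true) (k5 : chk (p * (N0 * 2)) p e1 (D0 * 2) 2 = true) :
    5 ≤ (charDegrees G).ncard := by
  by_contra hcon
  rw [not_le] at hcon
  have hpp := hp.out
  obtain ⟨a, b, c, hcd, ha, hb, hc', hab, hac, hbc⟩ := exists_three (not_solvable M hc) hcon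
  obtain ⟨x, hx, hDx⟩ := H740.FiveBase.exists_mul M hD
  -- some degree is divisible by `p`
  obtain ⟨χ, hχ⟩ := IM.of_normal M hIM
  have hpx : ¬ p ∣ D0 * x := by
    intro h
    rcases hpp.dvd_mul.1 h with h | h
    · exact hDp h
    · exact h2 ((Nat.prime_dvd_prime_iff_eq hpp Nat.prime_two).1 ((h.trans hx).trans hidx))
  have hx0 : 0 < x := Nat.pos_of_dvd_of_pos (hx.trans hidx) (by norm_num)
  have h5 : D0 * x ≠ 1 := by
    intro h
    have := Nat.eq_one_of_mul_eq_one_right h
    omega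
  have h6 : charDegree (χ : G → ℂ) ≠ 1 := by
    intro h; rw [h] at hχ; exact hpp.one_lt.ne' (Nat.dvd_one.1 hχ)
  have h7 : D0 * x ≠ charDegree (χ : G → ℂ) := by
    intro h; rw [← h] at hχ; exact hpx hχ
  obtain ⟨b', hcd', hb', h8, h9⟩ := reorder hcd ha hb hc' hab hac hbc hDx ⟨χ, rfl⟩ h5 h6 h7
  generalize charDegree (χ : G → ℂ) = c' at *
  have hb'm : b' ∈ charDegrees G := by rw [hcd']; simp
  have hb'1 : 1 < b' := by
    have := pos_of_mem hb'm
    (clear * - hb' this; omega)
  obtain ⟨P, t, hP, ht, hcC, hcG, hpG, -⟩ := exists_e M hidx h2 hcard hpN hCM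
  have hb'N := dvd_card hb'm
  have hind : M.index = 1 ∨ M.index = 2 := (Nat.dvd_prime Nat.prime_two).1 hidx
  have hfin : ∀ e : ℕ, ¬ p ∣ e → e < p → (e * t) % p = (N0 * M.index) % p →
      chk (p * (N0 * M.index)) p e (D0 * x) M.index = true → False := by
    intro e he1 he2 he3 hk
    have he := relIndex_eq P hP hcC hcG hpG he2 he3
    obtain ⟨n₁, na, nb, sa, sb, s, f, q1, q2, q3, q4, q5, q6, q7, q8, q9, q10, q11⟩ :=
      eqn h2 P hP he he1 (fun N hN => index_ne M hc hidx hpp h2 N hN) hcd' h5 hb' h6 h8 h7 h9 hχ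
    refine chk_spec hk q1 (q2.trans (index_commutator M hc)) q3 q4 q5 q6 q7 q9 q10 hb'1
      (by rw [← hcG]; exact hb'N) h8.symm q11
  rcases hind with hi | hi
  · rw [hi] at hfin ht hx
    obtain rfl := Nat.dvd_one.1 ht
    obtain rfl := Nat.dvd_one.1 hx
    refine hfin e0 hep he0 (by rw [mul_one, mul_one]; exact he0') ?_
    rw [mul_one, mul_one]
    exact k1
  · rw [hi] at hfin ht hx
    rcases (Nat.dvd_prime Nat.prime_two).1 ht with rfl | rfl
    · refine hfin e1 hep' he1 (by rw [mul_one]; exact he1') ?_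
      rcases (Nat.dvd_prime Nat.prime_two).1 hx with rfl | rfl
      · rw [mul_one]; exact k4
      · exact k5
    · refine hfin e0 hep he0 ?_ ?_
      · exact Nat.ModEq.mul_right 2 he0'
      · rcases (Nat.dvd_prime Nat.prime_two).1 hx with rfl | rfl
        · rw [mul_one]; exact k2
        · exact k3

end Cfsg.Agent.H603.FD.Kill

namespace Cfsg.Agent.H603.FD.Kill

open Cfsg.Agent.H33

universe v

theorem card_centralizer_equiv {K : Type*} {L : Type*} [Group K] [Group L] (e : K ≃* L) (x : K) :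
    Nat.card (Subgroup.centralizer ({x} : Set K)) = Nat.card (Subgroup.centralizer ({e x} : Set L)) := by
  refine Nat.card_congr
    { toFun := fun y => ⟨e y, ?_⟩
      invFun := fun y => ⟨e.symm y, ?_⟩
      left_inv := fun y => Subtype.ext (e.symm_apply_apply _)
      right_inv := fun y => Subtype.ext (e.apply_symm_apply _) }
  · have h := y.2
    rw [Subgroup.mem_centralizer_singleton_iff] at h ⊢
    rw [← map_mul, ← map_mul, h]
  · have h := y.2
    rw [Subgroup.mem_centralizer_singleton_iff] at h ⊢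
    apply e.injective
    rw [map_mul, map_mul, e.apply_symm_apply, h]

/-- `IM` by counting element orders -/
theorem im_of_orders {K : Type*} [Group K] [Finite K] {p : ℕ} [hp : Fact p.Prime] {N0 e0 : ℕ}
    (hcard : Nat.card K = p * N0) (hpN : ¬ p ∣ N0) (he0 : e0 < p) (he0' : e0 % p = N0 % p)
    (hCM : ∀ x : K, orderOf x = p → Nat.card (Subgroup.centralizer ({x} : Set K)) = p)
    (S : Finset ℕ) (hS : ∀ n ∈ S, ¬ p ∣ n ∧ ∃ g : K, orderOf g = n) (hlt : e0 < S.card) : IM p K := by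
  have hpp := hp.out
  obtain ⟨P⟩ : Nonempty (Sylow p K) := inferInstance
  have hP : Nat.card P = p := by
    rw [P.card_eq_multiplicity, hcard, Nat.factorization_mul hpp.ne_zero (by
      intro h; rw [h] at hpN; exact hpN (dvd_zero _)), Finsupp.add_apply, hpp.factorization_self,
      Nat.factorization_eq_zero_of_not_dvd hpN, pow_one]
  have hcyc : IsCyclic P := isCyclic_of_prime_card hP
  obtain ⟨g, hg⟩ := hcyc.exists_generator
  have hx : (P : Subgroup K) = Subgroup.zpowers (g : K) := by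
    apply le_antisymm
    · intro y hy
      obtain ⟨i, hi⟩ := Subgroup.mem_zpowers_iff.1 (hg ⟨y, hy⟩)
      exact ⟨i, congrArg Subtype.val hi⟩
    · rw [Subgroup.zpowers_le]
      exact g.2
  have hox : orderOf (g : K) = p := by
    rw [← Nat.card_zpowers, ← hx]
    exact hP
  have hC : Nat.card (Subgroup.centralizer ((P : Subgroup K) : Set K)) = p := by
    rw [hx, centralizer_zpowers, hCM _ hox]
  have he := relIndex_eq P hP (c := 1) (by rw [hC, mul_one]) hcard hpN he0 (by rw [mul_one]; exact he0')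
  refine H593.IMCyc.IM_of_orders_self P hcyc (by rw [hcard]; exact dvd_mul_right _ _) ?_ S hS ?_
  · exact IsPGroup.of_card (n := 1) (by rw [hC, pow_one])
  · rw [he]; exact hlt

variable {G : Type v} [Group G] [Finite G] {p : ℕ} [hp : Fact p.Prime]

omit hp in
theorem eqn_small {e n₁ na nb a b f : ℕ} {sa sb s : ℤ} (he : 2 ≤ e) (hep : e + 1 < p)
    (hn1 : n₁ = 1) (hn : n₁ + na + nb = e) (ha : 1 < a) (hb : 1 < b)
    (hsa : sa = 1 ∨ sa = -1) (hsb : sb = 1 ∨ sb = -1) (hs : s = 1 ∨ s = -1)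
    (hna : na ≠ 0 → (p : ℤ) ∣ sa * a - 1) (hnb : nb ≠ 0 → (p : ℤ) ∣ sb * b - 1)
    (hf : f = 1 ∨ f = a) (hfe : (p : ℤ) ∣ f + e * s)
    (heq : n₁ + sa * na * a + sb * nb * b + s * f = 0) :
    ((p : ℤ) ∣ b - 1 ∧ (a : ℤ) = (e - 1) * b + 1) ∨ ((p : ℤ) ∣ b + 1 ∧ (a : ℤ) = (e - 1) * b - 1) := by
  subst hn1
  have key : ∀ t : ℤ, (t = e + 1 ∨ t = e - 1 ∨ t = -(e + 1) ∨ t = -(e - 1)) → ¬ (p : ℤ) ∣ t := by
    intro t ht h
    have h1 : t ≠ 0 := by omega
    have h2 := Int.le_of_dvd (by positivity : (0 : ℤ) < |t|) ((dvd_abs _ _).2 h)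
    have h3 : |t| ≤ e + 1 := by
      rw [abs_le]; (clear * - ht; omega)
    omega
  rcases hf with rfl | rfl
  · exfalso
    push_cast at hfe
    rcases hs with rfl | rfl
    · exact key _ (Or.inl (by ring)) hfe
    · exact key _ (Or.inr (Or.inr (Or.inr rfl))) (by
        have h1 : -((e : ℤ) - 1) = 1 + e * -1 := by ring
        rw [h1]; exact hfe)
  · have hna0 : na = 0 := by
      by_contra h
      have h1 := hna h
      have h2 : (p : ℤ) ∣ sa * (f + e * s) - (sa * f - 1) := dvd_sub (Dvd.dvd.mul_left hfe _) h1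
      refine key _ ?_ h2
      rcases hsa with rfl | rfl <;> rcases hs with rfl | rfl
      · left; ring
      · right; right; right; ring
      · right; right; right; ring
      · left; ring
    subst hna0
    have hnb0 : nb ≠ 0 := by omega
    have h1 := hnb hnb0
    have h2 : (nb : ℤ) = e - 1 := by omega
    have h3 : (1 : ℤ) ≤ e - 1 := by omega
    have hb' : (1 : ℤ) < b := by exact_mod_cast hb
    have ha' : (1 : ℤ) < f := by exact_mod_cast ha
    have h4 : (0 : ℤ) < (e - 1) * b := by nlinarith only [he, hb]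
    have heq' : 1 + sb * (e - 1) * b + s * f = 0 := by
      rw [← h2]
      push_cast at heq
      linarith only [heq]
    rcases hsb with rfl | rfl
    · rcases hs with rfl | rfl
      · exfalso; linarith only [h4, heq']
      · left
        refine ⟨by simpa using h1, by linarith only [heq']⟩
    · rcases hs with rfl | rfl
      · right
        refine ⟨?_, by linarith only [heq']⟩
        rw [← dvd_neg]
        have h5 : -((b : ℤ) + 1) = -1 * b - 1 := by ring
        rw [h5]; exact h1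
      · exfalso; linarith only [ha, h4, heq']

/-- `G = M`, `1 < e < p - 1` -/
theorem inner (M : Subgroup G) (hM : M.Normal) (hc : Subgroup.centralizer (M : Set G) = ⊥)
    (hs : IsSimpleGroup M) (hidx : M.index = 1) (h2 : p ≠ 2) {N0 e : ℕ}
    (hcard : Nat.card M = p * N0) (hpN : ¬ p ∣ N0) (he : e + 1 < p) (he' : e % p = N0 % p) (he2 : 2 ≤ e)
    (hCM : ∀ x : M, orderOf x = p → Nat.card (Subgroup.centralizer ({x} : Set M)) = p)
    (hIM : IM p M) (hcon : (charDegrees G).ncard < 5) :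
    ∃ u v : ℕ, 1 < u ∧ u ∣ p * N0 ∧ v ∣ p * N0 ∧
      (((p : ℤ) ∣ u - 1 ∧ (v : ℤ) = (e - 1) * u + 1) ∨ ((p : ℤ) ∣ u + 1 ∧ (v : ℤ) = (e - 1) * u - 1)) := by
  have hpp := hp.out
  obtain ⟨a, b, c, hcd, ha, hb, hc', hab, hac, hbc⟩ := exists_three (not_solvable M hc) hcon
  obtain ⟨χ, hχ⟩ := IM.of_normal M hIM
  have h6 : charDegree (χ : G → ℂ) ≠ 1 := by
    intro h; rw [h] at hχ; exact hpp.one_lt.ne' (Nat.dvd_one.1 hχ)
  have key : ∃ u v w, charDegrees G = {1, u, v, w} ∧ u ≠ 1 ∧ v ≠ 1 ∧ w ≠ 1 ∧ u ≠ v ∧ u ≠ w ∧ v ≠ w ∧ p ∣ w := by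
    have h4 : charDegree (χ : G → ℂ) ∈ charDegrees G := ⟨χ, rfl⟩
    have h4' := h4
    rw [hcd] at h4'
    simp only [Set.mem_insert_iff, Set.mem_singleton_iff] at h4'
    rcases h4' with h | h | h | h
    · exact absurd h h6
    · obtain ⟨w, hw, hw1, hw2, hw3⟩ := reorder hcd ha hb hc' hab hac hbc (u := b) (by rw [hcd]; simp) h4
        hb h6 (h ▸ hab.symm)
      exact ⟨b, w, _, hw, hb, hw1, h6, hw2, h ▸ hab.symm, hw3, hχ⟩
    · obtain ⟨w, hw, hw1, hw2, hw3⟩ := reorder hcd ha hb hc' hab hac hbc (u := a) (by rw [hcd]; simp) h4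
        ha h6 (h ▸ hab)
      exact ⟨a, w, _, hw, ha, hw1, h6, hw2, h ▸ hab, hw3, hχ⟩
    · obtain ⟨w, hw, hw1, hw2, hw3⟩ := reorder hcd ha hb hc' hab hac hbc (u := a) (by rw [hcd]; simp) h4
        ha h6 (h ▸ hac)
      exact ⟨a, w, _, hw, ha, hw1, h6, hw2, h ▸ hac, hw3, hχ⟩
  obtain ⟨a, b, c, hcd, ha, hb, hc', hab, hac, hbc, hpc⟩ := key
  have ham : a ∈ charDegrees G := by rw [hcd]; simp
  have hbm : b ∈ charDegrees G := by rw [hcd]; simp
  have ha1 : 1 < a := by have := pos_of_mem ham; (clear * - ha this; omega)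
  have hb1 : 1 < b := by have := pos_of_mem hbm; (clear * - hb this; omega)
  obtain ⟨P, t, hP, ht, hcC, hcG, hpG, -⟩ := exists_e M (hidx ▸ one_dvd 2) h2 hcard hpN hCM
  rw [hidx, mul_one] at hcG hpG
  rw [hidx] at ht
  obtain rfl := Nat.dvd_one.1 ht
  have her := relIndex_eq P hP (e := e) hcC hcG hpG (by omega) (by rw [mul_one]; exact he')
  have hpe : ¬ p ∣ e := fun h => by
    have := Nat.le_of_dvd (by omega) h
    omega
  obtain ⟨n₁, na, nb, sa, sb, s, f, q1, q2, q3, q4, q5, q6, q7, q8, q9, q10, q11⟩ :=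
    eqn h2 P hP her hpe (fun N hN => index_ne M hc (hidx ▸ one_dvd 2) hpp h2 N hN) hcd ha hb hc' hab hac hbc hpc
  have q2' := q2.trans (index_commutator M hc)
  have hn1 : n₁ = 1 := by omega
  have haN := dvd_card ham
  have hbN := dvd_card hbm
  rw [hcG] at haN hbN
  rcases q9 with h | h | h
  · have := eqn_small he2 he hn1 q3 ha1 hb1 q4 q5 q6 q7 q8 (Or.inl h) q10 q11
    exact ⟨b, a, hb1, hbN, haN, this⟩
  · have := eqn_small he2 he hn1 q3 ha1 hb1 q4 q5 q6 q7 q8 (Or.inr h) q10 q11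
    exact ⟨b, a, hb1, hbN, haN, this⟩
  · have := eqn_small he2 he hn1 (by omega : n₁ + nb + na = e) hb1 ha1 q5 q4 q6 q8 q7 (Or.inr h) q10
      (by linarith only [q11])
    exact ⟨a, b, ha1, haN, hbN, this⟩

end Cfsg.Agent.H603.FD.Kill
end

-- part: H603/FD/TitsRow
section
/-!
# Almost simple groups with socle the Tits group: at least five character degrees (helper603)
-/

set_option autoImplicit false

open Cfsg

namespace Cfsg.Agent.H603.FD.TitsRow

open Subgroup Cfsg.Agent.H603.FD.Kill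

universe u

/-- One self-centralizing element of order `p`. -/
theorem cent_of_one {K : Type*} [Group K] [Finite K] {p N0 : ℕ} [hp : Fact p.Prime] (hcard : Nat.card K = p * N0)
    (hpN : ¬ p ∣ N0) {x₀ : K} (hx₀ : orderOf x₀ = p) (h : Nat.card (centralizer ({x₀} : Set K)) = p) (x : K)
    (hx : orderOf x = p) : Nat.card (centralizer ({x} : Set K)) = p := by
  have hpp := hp.out
  have hsyl : ∀ y : K, orderOf y = p → ∃ P : Sylow p K, (P : Subgroup K) = zpowers y := by
    intro y hy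
    have h1 : Nat.card (zpowers y) = p := by rw [Nat.card_zpowers, hy]
    have h2 : IsPGroup p (zpowers y) := IsPGroup.of_card (n := 1) (by rw [h1, pow_one])
    obtain ⟨P, hP⟩ := h2.exists_le_sylow
    refine ⟨P, ?_⟩
    symm
    refine Subgroup.eq_of_le_of_card_ge hP ?_
    have h3 : Nat.card P = p := by
      rw [P.card_eq_multiplicity, hcard, Nat.factorization_mul hpp.ne_zero (by
        intro h; rw [h] at hpN; exact hpN (dvd_zero _)), Finsupp.add_apply, hpp.factorization_self,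
        Nat.factorization_eq_zero_of_not_dvd hpN, pow_one]
    rw [h1]
    exact h3.le
  obtain ⟨P, hP⟩ := hsyl x hx
  obtain ⟨Q, hQ⟩ := hsyl x₀ hx₀
  obtain ⟨g, hg⟩ := MulAction.exists_smul_eq K Q P
  have h1 : (P : Subgroup K) = (Q : Subgroup K).map (MulAut.conj g).toMonoidHom := by
    rw [← hg]
    rfl
  have h2 : zpowers x = zpowers (g * x₀ * g⁻¹) := by
    rw [← hP, h1, hQ, MonoidHom.map_zpowers]
    rfl
  rw [← centralizer_zpowers, h2, centralizer_zpowers]
  have h3 := card_centralizer_equiv (MulAut.conj g) x₀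
  rw [h] at h3
  exact h3.symm

theorem mem_2048 : 2048 ∈ charDegrees Cfsg.Lie.TitsGroup := by
  have : Fact (Nat.Prime 2) := ⟨Nat.prime_two⟩
  obtain ⟨hidx, -, -, hcard⟩ := Cfsg.Agent.S1074.result
  have h0 : FixBN.HasSplit 2 ↥(Cfsg.Lie.twistedF4 (ZMod 2) 1) :=
    H794.TitsPP.hasSplit (K := ZMod 2) (m := 0) (by simp)
  obtain ⟨χ, hχ, h1⟩ := Cfsg.Agent.H163.Steinberg.exists_irr_of_hasSplit h0
  obtain ⟨h2, -⟩ := h1 default
  have hcard' : Nat.card ↥(Cfsg.Lie.twistedF4 (ZMod 2) 1) = 2 ^ 12 * (3 ^ 3 * 5 ^ 2 * 13) := by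
    rw [← Subgroup.card_mul_index (_root_.commutator ↥(Cfsg.Lie.twistedF4 (ZMod 2) 1)), hidx]
    have h3 : Nat.card (commutator ↥(Cfsg.Lie.twistedF4 (ZMod 2) 1)) = 2 ^ 11 * 3 ^ 3 * 5 ^ 2 * 13 := hcard
    rw [h3]
    norm_num
  have hQ : Nat.card (default : Sylow 2 ↥(Cfsg.Lie.twistedF4 (ZMod 2) 1)) = 2 ^ 12 := by
    rw [Sylow.card_eq_multiplicity, hcard', Nat.factorization_mul (by norm_num) (by norm_num), Finsupp.add_apply,
      Nat.prime_two.factorization_pow, Finsupp.single_eq_same,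
      Nat.factorization_eq_zero_of_not_dvd (by norm_num), add_zero]
  rw [hQ] at h2
  have hfin : Finite ↥(Cfsg.Lie.twistedF4 (ZMod 2) 1) :=
    Nat.finite_of_card_ne_zero (by rw [hcard']; norm_num)
  have h3 : 2 ^ 12 ∈ charDegrees ↥(Cfsg.Lie.twistedF4 (ZMod 2) 1) :=
    ⟨⟨χ, hχ⟩, Blocks.Basic.charDegree_of_eq h2⟩
  obtain ⟨c, hc, hcd, hci⟩ := H424.DegTools.clifford_down (_root_.commutator ↥(Cfsg.Lie.twistedF4 (ZMod 2) 1)) h3
  rw [hidx] at hci
  have hfin' : Finite (commutator ↥(Cfsg.Lie.twistedF4 (ZMod 2) 1)) := inferInstance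
  have h4 : c ∣ 2 ^ 11 * 3 ^ 3 * 5 ^ 2 * 13 := by
    rw [← hcard]
    exact H424.DegTools.dvd_card hc
  obtain ⟨j, hj, rfl⟩ := (Nat.dvd_prime_pow Nat.prime_two).1 hcd
  rw [Nat.pow_div hj (by norm_num)] at hci
  have h5 : j = 11 ∨ j = 12 := by
    have h6 : 2 ^ (12 - j) ∣ 2 ^ 1 := hci
    have h7 := Nat.pow_dvd_pow_iff_le_right' |>.1 h6
    omega
  rcases h5 with rfl | rfl
  · exact hc
  · norm_num at h4

theorem out_tits {K : Type*} [Group K] (h : Cfsg.Lie.IsoTits K) : Nat.card (Cfsg.Out K) ∣ 2 := by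
  obtain ⟨e⟩ := H690.Spor.Tits.nonempty_equiv h
  have hfin : Finite Cfsg.Agent.FourTwo.Base.LL := Cfsg.Agent.FourTwo.Perf.instFiniteLL
  have h1 := Cfsg.Agent.TitsK.tdata.index_inn
  have h2 := H55.OutGen.card_out_congr (H := ↥Cfsg.Agent.TitsK.TT) e
  rw [h2, H55.OutGen.card_out_eq_index]
  exact h1

theorem im_tits {K : Type*} [Group K] (h : Cfsg.Lie.IsoTits K) (hcard : Nat.card K = 13 * 1382400) :
    H33.IM 13 K := by
  obtain ⟨χ, hχ⟩ := H690.Spor.Tits.hasDZ h (p := 13) (by norm_num) (by norm_num) (by norm_num)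
  refine ⟨χ, ?_⟩
  by_contra hd
  rw [Nat.factorization_eq_zero_of_not_dvd hd, hcard, Nat.factorization_mul (by norm_num) (by norm_num),
    Finsupp.add_apply, (by norm_num : Nat.Prime 13).factorization_self] at hχ
  omega

theorem cent_aux {S : Type*} [Group S] [Finite S] (h : Cfsg.Lie.IsoTits S) (D : H87.TitsAbs.Dat S)
    (hcard : Nat.card S = 13 * 1382400) (x : S) (hx : orderOf x = 13) :
    Nat.card (centralizer ({x} : Set S)) = 13 := by
  have f13 : Fact (Nat.Prime 13) := ⟨by norm_num⟩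
  exact cent_of_one (p := 13) (N0 := 1382400) hcard (by norm_num) (orderOf_eq_prime D.x13 D.x1)
    (H845.CopTits.card_cent_x h D) x hx

variable {G : Type u} [Group G] [Finite G]

theorem five_aux {K : Type*} [Group K] (M : Subgroup G) (hM : M.Normal)
    (hc : Subgroup.centralizer (M : Set G) = ⊥) (h : Cfsg.Lie.IsoTits M) (e : M ≃* K)
    (h' : Cfsg.Lie.IsoTits K) (hD : 2048 ∈ charDegrees K) (D : H87.TitsAbs.Dat K) :
    5 ≤ (Cfsg.charDegrees G).ncard := by
  have f13 : Fact (Nat.Prime 13) := ⟨by norm_num⟩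
  have hs : IsSimpleGroup M := Omega.TwoF.TitsAut.simple_iso h
  have hcard : Nat.card M = 13 * 1382400 := by
    rw [Omega.TwoF.TitsAut.card_iso h]; norm_num
  have hcK : Nat.card K = 13 * 1382400 := by
    rw [← Nat.card_congr e.toEquiv, hcard]
  have hfK : Finite K := Finite.of_equiv _ e.toEquiv
  have hidx : M.index ∣ 2 := (H740.FiveBase.index_dvd_out M hM hc).trans (out_tits h)
  refine five_of_kill (p := 13) (N0 := 1382400) (e0 := 6) (e1 := 12) (D0 := 2048) M hM hc hs hidx (by norm_num)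
    hcard (by norm_num) (by norm_num) (by norm_num) (by norm_num) (by norm_num) (by norm_num) (by norm_num)
    (fun x hx => (card_centralizer_equiv e x).trans (cent_aux h' D hcK _ ((MulEquiv.orderOf_eq e x).trans hx)))
    (im_tits h hcard) ?_ (by norm_num) (by norm_num)
    (by decide +kernel) (by decide +kernel) (by decide +kernel) (by decide +kernel) (by decide +kernel)
  rw [H424.DegTools.charDegrees_congr e]
  exact hD

theorem five_gen {A : Type} [Group A] (T : Subgroup A) (M : Subgroup G) (hM : M.Normal)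
    (hc : Subgroup.centralizer (M : Set G) = ⊥) (h : Cfsg.Lie.IsoTits M) (e : Nonempty (M ≃* commutator T))
    (h' : Cfsg.Lie.IsoTits (commutator T)) (hD : 2048 ∈ charDegrees (commutator T))
    (D : Nonempty (H87.TitsAbs.Dat (commutator T))) : 5 ≤ (Cfsg.charDegrees G).ncard := by
  obtain ⟨e⟩ := e
  obtain ⟨D⟩ := D
  exact five_aux M hM hc h e h' hD D

theorem iso_refl : Cfsg.Lie.IsoTits Cfsg.Lie.TitsGroup := ⟨MulEquiv.refl _⟩

theorem five_tits (M : Subgroup G) (hM : M.Normal) (hc : Subgroup.centralizer (M : Set G) = ⊥)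
    (h : Cfsg.Lie.IsoTits M) : 5 ≤ (Cfsg.charDegrees G).ncard :=
  five_gen (Cfsg.Lie.twistedF4 (ZMod 2) 1) M hM hc h h iso_refl mem_2048 H87.TitsData.dat_tits

end Cfsg.Agent.H603.FD.TitsRow
end
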